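import Groth.Agent.L07.Almost.Coinv
import Groth.Agent.L25.HopfFlatGen
import Groth.Agent.L07.EtConn.Tools

/-!
# Multiplicative parts and injective homomorphisms
-/

universe u

open TensorProduct
open Groth.L25.LargestMult (N comp B J)
open Groth.L07.Almost (Mm πJ)

set_option autoImplicit false
set_option backward.isDefEq.respectTransparency false
set_option linter.style.haveILetI false
set_option maxHeartbeats 1000000
set_option synthInstance.maxHeartbeats 200000
set_option maxSynthPendingDepth 4

noncomputable section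

namespace Groth.L07.MultExact

variable {k : Type u} [Field k] {A A' : Type u} [CommRing A] [HopfAlgebra k A] [Coalgebra.IsCocomm k A]
  [CommRing A'] [HopfAlgebra k A'] [Coalgebra.IsCocomm k A']

local notation "L" => AlgebraicClosure k

theorem J_le_comap (ψ : A' →ₐc[k] A) : J k A' ≤ (J k A).comap (ψ : A' →+* A) := by
  conv_lhs => unfold J
  rw [Ideal.map_le_iff_le_comap]
  intro b hb
  obtain ⟨n, hn⟩ := Groth.L25.LargestMult.mem_B.1 b.2
  have h := Groth.L25.LargestMult.sub_counit_mem_J
    (Groth.L25.LargestMult.mem_B.2 ⟨n, Groth.L07.EtConn.map_mem_N ψ n _ hn⟩)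
  rw [CoalgHomClass.counit_comp_apply, show Coalgebra.counit (R := k) (b : A') = 0 from hb, map_zero, sub_zero] at h
  exact h

/-- the map of multiplicative parts -/
def mapMm (ψ : A' →ₐc[k] A) : Mm k A' →ₐc[k] Mm k A :=
  BialgHom.ofAlgHom (Ideal.Quotient.liftₐ (J k A') ((Ideal.Quotient.mkₐ k (J k A)).comp (ψ : A' →ₐ[k] A))
      fun a ha => Ideal.Quotient.eq_zero_iff_mem.2 (J_le_comap ψ ha))
    (Ideal.Quotient.algHom_ext k (AlgHom.ext fun a => CoalgHomClass.counit_comp_apply
      ((Bialgebra.Quotient.mkBialgHom (R := k) (J k A)).comp ψ) a))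
    (Ideal.Quotient.algHom_ext k (AlgHom.ext fun a => by
      have h := CoalgHomClass.map_comp_comul_apply ((Bialgebra.Quotient.mkBialgHom (R := k) (J k A)).comp ψ) a
      refine Eq.trans ?_ h
      show TensorProduct.map _ _ (TensorProduct.map (Ideal.Quotient.mkₐ k (J k A')).toLinearMap
          (Ideal.Quotient.mkₐ k (J k A')).toLinearMap (Coalgebra.comul (R := k) a)) = _
      rw [TensorProduct.map_map]
      rfl))

theorem mapMm_mk (ψ : A' →ₐc[k] A) (a : A') :
    mapMm ψ (Ideal.Quotient.mk _ a) = Ideal.Quotient.mk _ (ψ a) := rfl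

theorem πJ_eq_iff {g h : GroupLike L (L ⊗[k] A)} (e : πJ k A g.val = πJ k A h.val) : g = h := by
  refine mul_inv_eq_one.1 (Groth.L07.Almost.groupLike_eq_one ?_)
  rw [GroupLike.val_mul, map_mul, e, ← map_mul, ← GroupLike.val_mul, mul_inv_cancel, GroupLike.val_one, map_one]

/-- **injective homomorphisms are injective on multiplicative parts** -/
theorem mapMm_injective (ψ : A' →ₐc[k] A) (hψ : Function.Injective ψ) : Function.Injective (mapMm ψ) := by
  classical
  let ψL : L ⊗[k] A' →ₐc[L] L ⊗[k] A := Bialgebra.TensorProduct.map (BialgHom.id L L) ψ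
  have hψL : Function.Injective ψL :=
    TensorProduct.map_injective_of_flat_flat (LinearMap.id : L →ₗ[k] L) (ψ : A' →ₗ[k] A) Function.injective_id hψ
  let Ψ : L ⊗[k] Mm k A' →ₐc[L] L ⊗[k] Mm k A := Bialgebra.TensorProduct.map (BialgHom.id L L) (mapMm ψ)
  have hnat : ∀ z, Ψ (πJ k A' z) = πJ k A (ψL z) := fun z => by
    induction z using TensorProduct.induction_on with
    | zero => simp
    | add p q hp hq => simp only [map_add, hp, hq]
    | tmul s a => rfl
  let Φ : (GroupLike L (L ⊗[k] A') →₀ L) →ₗ[L] L ⊗[k] Mm k A' :=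
    Finsupp.linearCombination L fun g => πJ k A' g.val
  have hΦ : Function.Surjective Φ := fun y => by
    obtain ⟨x, rfl⟩ := Groth.L07.Almost.πJ_surjective k A' y
    obtain ⟨f, rfl⟩ := Groth.L25.LargestMult.dec_surjective (k := L) (A := L ⊗[k] A') x
    induction f using Finsupp.induction_linear with
    | zero => exact ⟨0, by simp⟩
    | add p q hp hq =>
      obtain ⟨a, ha⟩ := hp
      obtain ⟨b, hb⟩ := hq
      exact ⟨a + b, by rw [map_add, map_add, map_add, ha, hb]⟩
    | single g b =>
      refine ⟨Finsupp.single g (Coalgebra.counit (R := L) (b : L ⊗[k] A')), ?_⟩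
      rw [Groth.L25.LargestMult.dec_single, map_mul, Groth.L07.Almost.πJ_of_mem_comp b.2,
        Finsupp.linearCombination_single, mul_smul_comm, mul_one]
  let P : GroupLike L (L ⊗[k] A') → GroupLike L (L ⊗[k] Mm k A) := fun g =>
    ⟨πJ k A (ψL g.val), (g.isGroupLikeElem_val.map ψL).map (πJ k A)⟩
  have hP : Function.Injective P := fun g h e => by
    have e' := πJ_eq_iff (g := ⟨ψL g.val, g.isGroupLikeElem_val.map ψL⟩) (h := ⟨ψL h.val, h.isGroupLikeElem_val.map ψL⟩)
      (congrArg GroupLike.val e)
    exact GroupLike.val_injective (hψL (congrArg GroupLike.val e'))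
  have hcomp : Function.Injective fun f => Ψ (Φ f) := by
    have he : ∀ f, Ψ (Φ f) = Finsupp.linearCombination L (fun g => (P g).val) f := fun f => by
      induction f using Finsupp.induction_linear with
      | zero => simp
      | add p q hp hq => simp only [map_add, hp, hq]
      | single g r => rw [Finsupp.linearCombination_single, Finsupp.linearCombination_single, map_smul, hnat]
    intro a b h
    simp only [he] at h
    exact ((linearIndep_groupLikeVal (R := L) (A := L ⊗[k] Mm k A)).comp P hP) h
  have hΨ : Function.Injective Ψ := fun y y' h => by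
    obtain ⟨f, rfl⟩ := hΦ y
    obtain ⟨f', rfl⟩ := hΦ y'
    exact congrArg Φ (hcomp h)
  intro a b h
  refine Module.FaithfullyFlat.tensorProduct_mk_injective (A := k) (B := L) (Mm k A') (hΨ ?_)
  show (1 : L) ⊗ₜ[k] mapMm ψ a = (1 : L) ⊗ₜ[k] mapMm ψ b
  rw [h]

/-- quotients of Hopf algebras of multiplicative type are of multiplicative type -/
theorem isMultTypeConst_quot {C : Type u} [CommRing C] [HopfAlgebra k C] [Algebra.FiniteType k A]
    (π : Mm k A →ₐc[k] C) (hπ : Function.Surjective π) : SGA3b.IsMultTypeConst k C := by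
  obtain ⟨X, _, _, ⟨d⟩⟩ := Groth.L07.Almost.exists_diag k A
  haveI : Algebra.FiniteType k C := Algebra.FiniteType.of_surjective
    ((π : Mm k A →ₐ[k] C).comp (Ideal.Quotient.mkₐ k (J k A))) (hπ.comp Ideal.Quotient.mk_surjective)
  haveI : Algebra.FiniteType L (L ⊗[k] C) := Algebra.FiniteType.baseChange L
  let πL : L ⊗[k] Mm k A →ₐc[L] L ⊗[k] C := Bialgebra.TensorProduct.map (BialgHom.id L L) π
  have hπL : Function.Surjective πL := fun y => by
    induction y using TensorProduct.induction_on with
    | zero => exact ⟨0, map_zero _⟩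
    | add p q hp hq =>
      obtain ⟨a, rfl⟩ := hp
      obtain ⟨b, rfl⟩ := hq
      exact ⟨a + b, map_add _ _ _⟩
    | tmul s a =>
      obtain ⟨a, rfl⟩ := hπ a
      exact ⟨s ⊗ₜ[k] a, rfl⟩
  let f : MonoidAlgebra L (GroupLike L (L ⊗[k] C)) →ₐc[L] L ⊗[k] C := MonoidAlgebra.liftGroupLikeBialgHom
  have hinj : Function.Injective f := Groth.L08.TorusQuot.liftGroupLike_injective
  have hsurj : Function.Surjective f := fun y => by
    obtain ⟨z, rfl⟩ := hπL y
    rw [← d.symm_apply_apply z]
    induction d z using MonoidAlgebra.induction_linear with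
    | zero => exact ⟨0, by simp⟩
    | add p q hp hq =>
      obtain ⟨a, ha⟩ := hp
      obtain ⟨b, hb⟩ := hq
      exact ⟨a + b, by rw [map_add, map_add, map_add, ha, hb]⟩
    | single x r =>
      refine ⟨MonoidAlgebra.single (⟨πL (d.symm (MonoidAlgebra.single x 1)),
        ((MonoidAlgebra.isGroupLikeElem_single_one x).map d.symm.toBialgHom).map πL⟩ : GroupLike L (L ⊗[k] C)) r, ?_⟩
      rw [show (MonoidAlgebra.single x r : MonoidAlgebra L X) = r • MonoidAlgebra.single x 1 by simp, map_smul, map_smul]
      simp [f, MonoidAlgebra.liftGroupLikeBialgHom]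
  exact ⟨L, inferInstance, inferInstance, inferInstance, GroupLike L (L ⊗[k] C), inferInstance,
    ⟨(BialgEquiv.ofBijective f ⟨hinj, hsurj⟩).symm⟩⟩

end Groth.L07.MultExact
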