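import Groth.Agent.L07.MultExact.Alg
import Groth.Agent.L07.Almost.Main
import Groth.Agent.L07.ExtShAff.HopfSeq
import Groth.Agent.L25.LargestMult.Scheme
import Groth.Agent.L25.SplitSub.Quot
import Mathlib.RingTheory.Flat.FaithfullyFlat.Algebra

/-!
# Largest subgroups of multiplicative type form exact sequences
-/

universe u

open CategoryTheory CategoryTheory.Limits AlgebraicGeometry MonoidalCategory CartesianMonoidalCategory
open scoped MonObj TensorProduct
open Groth.L25.Bridge (P)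
open Groth.L25.LargestMult (J)
open Groth.L07.Almost (Mm)
open Groth.L08.TorusQuot (sp sp_left sp_comp exists_sp)
open Groth.L25

set_option autoImplicit false
set_option backward.isDefEq.respectTransparency false
set_option backward.isDefEq.respectTransparency.types false
set_option linter.style.haveILetI false
set_option maxHeartbeats 1000000
set_option synthInstance.maxHeartbeats 200000
set_option maxSynthPendingDepth 4

noncomputable section

namespace Groth.L07.MultExact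

variable {k : Type u} [Field k]

local notation "Sk" => Spec (CommRingCat.of k)

theorem isMonHom_of_mono {X Y Z : Over Sk} [GrpObj X] [GrpObj Y] [GrpObj Z] (f : X ⟶ Y) (j : Y ⟶ Z) [IsMonHom j]
    [Mono j] (h : IsMonHom (f ≫ j)) : IsMonHom f := by
  refine ⟨?_, ?_⟩
  · rw [← cancel_mono j, Category.assoc, IsMonHom.one_hom (f := f ≫ j), IsMonHom.one_hom (f := j)]
  · rw [← cancel_mono j, Category.assoc, Category.assoc, IsMonHom.mul_hom (f := f ≫ j),
      IsMonHom.mul_hom (f := j), ← Category.assoc (f ⊗ₘ f), MonoidalCategory.tensorHom_comp_tensorHom]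

section

variable {A : Type u} [CommRing A] [HopfAlgebra k A] [Coalgebra.IsCocomm k A]

/-- homomorphisms from groups of multiplicative type land in the multiplicative part -/
theorem exists_factor_J {H : Over Sk} [GrpObj H] (hH : SGA3x.IsMultTypeFT H) (e : H ⟶ P k A) [IsMonHom e] :
    ∃ w : H ⟶ P k (Mm k A), w ≫ sp (Bialgebra.Quotient.mkBialgHom (R := k) (J k A)) = e := by
  let i₀ : Over.mk (H.hom ≫ 𝟙 Sk) ⟶ H := Over.homMk (𝟙 H.left) (by simp)
  let v : H ⟶ Red.bc (𝟙 Sk) (P k A) := NilAction.ofBase (𝟙 Sk) (i₀ ≫ e)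
  have hv : IsMonHom v := Groth.L25.Bridge.isMonHom_of_mul v fun Y a b => by
    have key : ∀ c : Y ⟶ H, NilAction.toBase (𝟙 Sk) (c ≫ v) =
        (Over.homMk c.left (by simp) : Over.mk (Y.hom ≫ 𝟙 Sk) ⟶ H) ≫ e := fun c => by
      refine Over.OverMorphism.ext ?_
      show (c.left ≫ pullback.lift (i₀ ≫ e).left H.hom _) ≫ pullback.fst _ _ = c.left ≫ e.left
      rw [Category.assoc, pullback.lift_fst]
      show c.left ≫ 𝟙 _ ≫ e.left = _
      rw [Category.id_comp]
    refine Groth.L25.SplitSub.toBase_injective _ ?_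
    rw [Groth.L25.NilAction.toBase_mul, key, key, key, ← MonObj.mul_comp]
    refine congrArg (· ≫ e) ?_
    let j₀ : Over.mk (Y.hom ≫ 𝟙 Sk) ⟶ Y := Over.homMk (𝟙 Y.left) (by simp)
    have : ∀ c : Y ⟶ H, (Over.homMk c.left (by simp) : Over.mk (Y.hom ≫ 𝟙 Sk) ⟶ H) = j₀ ≫ c := fun c =>
      Over.OverMorphism.ext (Category.id_comp _).symm
    rw [this, this, this, MonObj.comp_mul]
  let z := Groth.L25.LargestMult.tot (𝟙 (P k A)) v
  have hz : z = e.left := by
    have h : NilAction.toBase (𝟙 Sk) v = i₀ ≫ e := NilAction.toBase_ofBase _ _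
    show (NilAction.toBase (𝟙 Sk) v ≫ 𝟙 (P k A)).left = e.left
    rw [h]
    show (𝟙 H.left ≫ e.left) ≫ 𝟙 _ = _
    exact (Category.comp_id _).trans (Category.id_comp _)
  have hJ : ∀ a ∈ J k A, Groth.L25.LargestMult.val z a = 0 := by
    intro a ha
    have h : J k A ≤ RingHom.ker (Groth.L25.LargestMult.val z) := by
      unfold J
      rw [Ideal.map_le_iff_le_comap]
      intro b hb
      obtain ⟨n, hn⟩ := Groth.L25.LargestMult.mem_B.1 b.2
      have h0 : Coalgebra.counit (R := k) (b : A) = 0 := hb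
      show Groth.L25.LargestMult.val z (b : A) = 0
      rw [Groth.L25.LargestMult.val_eq_counit (𝟙 (P k A)) v hH n _ hn, h0, map_zero, map_zero]
    exact h ha
  let φ : Mm k A →+* Γ(H.left, ⊤) := Ideal.Quotient.lift (J k A) (Groth.L25.LargestMult.val z) hJ
  let w₁ : H.left ⟶ Spec (CommRingCat.of (Mm k A)) := H.left.toSpecΓ ≫ Spec.map (CommRingCat.ofHom φ)
  let qJ := sp (Bialgebra.Quotient.mkBialgHom (R := k) (J k A))
  have hw₁ : w₁ ≫ qJ.left = e.left := by
    show (H.left.toSpecΓ ≫ Spec.map (CommRingCat.ofHom φ)) ≫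
      Spec.map (CommRingCat.ofHom (Ideal.Quotient.mk (J k A))) = _
    rw [Category.assoc, ← Spec.map_comp, ← CommRingCat.ofHom_comp, Ideal.Quotient.lift_comp_mk]
    exact (Groth.L25.LargestMult.eq_toSpecΓ_comp z).symm.trans hz
  refine ⟨Over.homMk w₁ ?_, Over.OverMorphism.ext hw₁⟩
  rw [← Over.w qJ, ← Category.assoc, hw₁]
  exact Over.w e

/-- the largest subgroup is the multiplicative part -/
theorem exists_model [Algebra.FiniteType k A] {G : Over Sk} [GrpObj G] (E : P k A ≅ G) [IsMonHom E.hom]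
    {M : Over Sk} [GrpObj M] (j : M ⟶ G) [IsMonHom j] [IsClosedImmersion j.left] (hM : SGA3x.IsMultTypeFT M)
    (hMmax : ∀ (M' : Over Sk) [GrpObj M'] (j' : M' ⟶ G) [IsMonHom j'] [IsClosedImmersion j'.left],
      SGA3x.IsMultTypeFT M' → ∃ g : M' ⟶ M, g ≫ j = j') :
    ∃ Φ : P k (Mm k A) ≅ M, IsMonHom Φ.hom ∧
      Φ.hom ≫ j = sp (Bialgebra.Quotient.mkBialgHom (R := k) (J k A)) ≫ E.hom := by
  let qJ := sp (Bialgebra.Quotient.mkBialgHom (R := k) (J k A))
  haveI : IsClosedImmersion qJ.left := by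
    rw [sp_left]; exact IsClosedImmersion.spec_of_surjective _ Ideal.Quotient.mk_surjective
  haveI : IsIso E.hom.left := inferInstanceAs (IsIso ((Over.forget _).map E.hom))
  haveI : IsClosedImmersion (qJ ≫ E.hom).left := inferInstanceAs (IsClosedImmersion (qJ.left ≫ E.hom.left))
  haveI : Algebra.FiniteType k (Mm k A) :=
    Algebra.FiniteType.of_surjective (Ideal.Quotient.mkₐ k _) Ideal.Quotient.mk_surjective
  obtain ⟨g, hg⟩ := hMmax _ (qJ ≫ E.hom)
    (Groth.L25.LargestMult.isMultTypeFT_of_const k _ Groth.L25.LargestMult.isMultTypeConst_quotient)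
  haveI : IsMonHom E.inv := inferInstance
  obtain ⟨w, hw⟩ := exists_factor_J hM (j ≫ E.inv)
  haveI : Mono qJ := Over.mono_of_mono_left _
  haveI : Mono j := Over.mono_of_mono_left _
  have h1 : g ≫ w = 𝟙 _ := by
    rw [← cancel_mono qJ, Category.assoc, hw, ← Category.assoc, hg, Category.assoc, Iso.hom_inv_id, Category.comp_id,
      Category.id_comp]
  have h2 : w ≫ g = 𝟙 _ := by
    rw [← cancel_mono j, Category.assoc, hg, ← Category.assoc, hw, Category.assoc, Iso.inv_hom_id, Category.comp_id,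
      Category.id_comp]
  exact ⟨⟨g, w, h1, h2⟩, isMonHom_of_mono g j (by rw [hg]; infer_instance), hg⟩

end

/-- **exactness of the largest subgroups of multiplicative type** -/
theorem exact_largest (G₁ G G₂ : Over Sk) [GrpObj G₁] [GrpObj G] [IsCommMonObj G] [IsAffine G.left]
    [LocallyOfFiniteType G.hom] [GrpObj G₂] [IsCommMonObj G₂] [IsAffine G₂.left] [LocallyOfFiniteType G₂.hom]
    (i : G₁ ⟶ G) [IsMonHom i] [IsClosedImmersion i.left] (q : G ⟶ G₂) [IsMonHom q] [Surjective q.left] [Flat q.left]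
    (hq : AlgGrp.IsKernel i q)
    (M₁ : Over Sk) [GrpObj M₁] (j₁ : M₁ ⟶ G₁) [IsMonHom j₁] [IsClosedImmersion j₁.left]
    (hM₁ : SGA3x.IsMultTypeFT M₁)
    (hM₁max : ∀ (M' : Over Sk) [GrpObj M'] (j' : M' ⟶ G₁) [IsMonHom j'] [IsClosedImmersion j'.left],
      SGA3x.IsMultTypeFT M' → ∃ g : M' ⟶ M₁, g ≫ j₁ = j')
    (M : Over Sk) [GrpObj M] (j : M ⟶ G) [IsMonHom j] [IsClosedImmersion j.left] (hM : SGA3x.IsMultTypeFT M)
    (hMmax : ∀ (M' : Over Sk) [GrpObj M'] (j' : M' ⟶ G) [IsMonHom j'] [IsClosedImmersion j'.left],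
      SGA3x.IsMultTypeFT M' → ∃ g : M' ⟶ M, g ≫ j = j')
    (M₂ : Over Sk) [GrpObj M₂] (j₂ : M₂ ⟶ G₂) [IsMonHom j₂] [IsClosedImmersion j₂.left]
    (hM₂ : SGA3x.IsMultTypeFT M₂)
    (hM₂max : ∀ (M' : Over Sk) [GrpObj M'] (j' : M' ⟶ G₂) [IsMonHom j'] [IsClosedImmersion j'.left],
      SGA3x.IsMultTypeFT M' → ∃ g : M' ⟶ M₂, g ≫ j₂ = j') :
    ∃ (u : M₁ ⟶ M) (v : M ⟶ M₂), u ≫ j = j₁ ≫ i ∧ v ≫ j₂ = j ≫ q ∧
      IsClosedImmersion u.left ∧ Surjective v.left ∧ Flat v.left ∧ AlgGrp.IsKernel u v := by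
  obtain ⟨A, _, _, _, E, hE⟩ := Groth.L08.CharSurj.exists_P (H := G)
  haveI := hE
  haveI := Groth.L08.CharSurj.isCocomm E
  haveI : IsMonHom E.inv := inferInstance
  obtain ⟨A₂, _, _, _, E₂, hE₂⟩ := Groth.L08.CharSurj.exists_P (H := G₂)
  haveI := hE₂
  haveI := Groth.L08.CharSurj.isCocomm E₂
  haveI : IsMonHom E₂.inv := inferInstance
  haveI : IsIso E.hom.left := inferInstanceAs (IsIso ((Over.forget _).map E.hom))
  haveI : IsIso E₂.inv.left := inferInstanceAs (IsIso ((Over.forget _).map E₂.inv))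
  obtain ⟨Φ, hΦm, hΦ⟩ := exists_model E j hM hMmax
  obtain ⟨Φ₂, hΦ₂m, hΦ₂⟩ := exists_model E₂ j₂ hM₂ hM₂max
  haveI := hΦm
  haveI := hΦ₂m
  haveI : IsMonHom Φ.inv := inferInstance
  haveI : IsIso Φ.inv.left := inferInstanceAs (IsIso ((Over.forget _).map Φ.inv))
  haveI : IsIso Φ₂.hom.left := inferInstanceAs (IsIso ((Over.forget _).map Φ₂.hom))
  obtain ⟨ψ, hψ⟩ := exists_sp (E.hom ≫ q ≫ E₂.inv)
  have hψinj : Function.Injective ψ := by
    letI : Algebra A₂ A := (ψ : A₂ →+* A).toAlgebra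
    have hl : Spec.map (CommRingCat.ofHom (algebraMap A₂ A)) = E.hom.left ≫ q.left ≫ E₂.inv.left :=
      (sp_left ψ).symm.trans (congrArg CommaMorphism.left hψ)
    have hfl : Flat (Spec.map (CommRingCat.ofHom (algebraMap A₂ A))) := by rw [hl]; infer_instance
    have hsu : Surjective (Spec.map (CommRingCat.ofHom (algebraMap A₂ A))) := by rw [hl]; infer_instance
    rw [Flat.SpecMap_iff, CommRingCat.hom_ofHom, RingHom.flat_algebraMap_iff] at hfl
    haveI := Module.FaithfullyFlat.of_comap_surjective (A := A₂) (B := A) hsu.surj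
    exact FaithfulSMul.algebraMap_injective A₂ A
  let ψb := mapMm ψ
  have hψb : Function.Injective ψb := mapMm_injective ψ hψinj
  haveI : Algebra.FiniteType k (Mm k A) :=
    Algebra.FiniteType.of_surjective (Ideal.Quotient.mkₐ k _) Ideal.Quotient.mk_surjective
  haveI : Algebra.FiniteType k (Mm k A₂) :=
    Algebra.FiniteType.of_surjective (Ideal.Quotient.mkₐ k _) Ideal.Quotient.mk_surjective
  let v : M ⟶ M₂ := Φ.inv ≫ sp ψb ≫ Φ₂.hom
  haveI : IsMonHom v := inferInstance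
  have hvq : v ≫ j₂ = j ≫ q := by
    have hsq : sp ψb ≫ sp (Bialgebra.Quotient.mkBialgHom (R := k) (J k A₂)) =
        sp (Bialgebra.Quotient.mkBialgHom (R := k) (J k A)) ≫ sp ψ := by
      rw [sp_comp, sp_comp]
      exact congrArg sp (BialgHom.ext fun a => rfl)
    show (Φ.inv ≫ sp ψb ≫ Φ₂.hom) ≫ j₂ = _
    rw [Category.assoc, Category.assoc, hΦ₂, ← Category.assoc (sp ψb), hsq, Category.assoc, hψ,
      Category.assoc, Category.assoc, Iso.inv_hom_id, Category.comp_id, ← Category.assoc _ E.hom, ← hΦ,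
      Category.assoc, Iso.inv_hom_id_assoc]
  haveI : Mono i := Over.mono_of_mono_left _
  haveI : Mono j := Over.mono_of_mono_left _
  haveI : Mono j₁ := Over.mono_of_mono_left _
  haveI : Mono j₂ := Over.mono_of_mono_left _
  haveI : IsClosedImmersion (j₁ ≫ i).left := inferInstanceAs (IsClosedImmersion (j₁.left ≫ i.left))
  obtain ⟨u, hu⟩ := hMmax M₁ (j₁ ≫ i) hM₁
  haveI : IsClosedImmersion u.left := by
    haveI : IsClosedImmersion (u.left ≫ j.left) := by rw [← Over.comp_left, hu]; infer_instance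
    exact IsClosedImmersion.of_comp u.left j.left
  haveI : Mono u := Over.mono_of_mono_left _
  have hflv : Flat (sp ψb).left ∧ Surjective (sp ψb).left := by
    letI : Algebra (Mm k A₂) (Mm k A) := (ψb : Mm k A₂ →+* Mm k A).toAlgebra
    haveI : IsScalarTower k (Mm k A₂) (Mm k A) :=
      IsScalarTower.of_algebraMap_eq fun r => ((ψb : Mm k A₂ →ₐ[k] Mm k A).commutes r).symm
    haveI : Module.FaithfullyFlat (Mm k A₂) (Mm k A) :=
      Groth.L25.HopfFlat.faithfullyFlat_of_fg hψb ψb fun _ => rfl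
    rw [sp_left]
    refine ⟨?_, ⟨PrimeSpectrum.comap_surjective_of_faithfullyFlat (A := Mm k A₂) (B := Mm k A)⟩⟩
    rw [Flat.SpecMap_iff]
    exact RingHom.flat_algebraMap_iff.2 (inferInstanceAs (Module.Flat (Mm k A₂) (Mm k A)))
  haveI := hflv.1
  haveI := hflv.2
  refine ⟨u, v, hu, hvq, inferInstance, inferInstanceAs (Surjective (Φ.inv.left ≫ (sp ψb).left ≫ Φ₂.hom.left)),
    inferInstanceAs (Flat (Φ.inv.left ≫ (sp ψb).left ≫ Φ₂.hom.left)), ?_⟩
  -- the kernel
  let K := Groth.L07.ExtShAff.kerIdeal ψb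
  let qK : Mm k A →ₐc[k] Mm k A ⧸ K := Groth.L07.ExtShAff.kq ψb
  have hK : AlgGrp.IsKernel (sp qK) (sp ψb) :=
    Groth.L08.SpecKernel.isKernel ψb qK Ideal.Quotient.mk_surjective (Eq.trans Ideal.mk_ker rfl)
  haveI : IsClosedImmersion (sp qK).left := by
    rw [sp_left]; exact IsClosedImmersion.spec_of_surjective _ Ideal.Quotient.mk_surjective
  haveI : Algebra.FiniteType k (Mm k A ⧸ K) :=
    Algebra.FiniteType.of_surjective (Ideal.Quotient.mkₐ k _) Ideal.Quotient.mk_surjective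
  have hKT : SGA3x.IsMultTypeFT (P k (Mm k A ⧸ K)) :=
    Groth.L25.LargestMult.isMultTypeFT_of_const k _ (isMultTypeConst_quot qK Ideal.Quotient.mk_surjective)
  haveI : IsIso Φ.hom.left := inferInstanceAs (IsIso ((Over.forget _).map Φ.hom))
  let a : P k (Mm k A ⧸ K) ⟶ G := sp qK ≫ Φ.hom ≫ j
  haveI : IsClosedImmersion a.left := inferInstanceAs (IsClosedImmersion ((sp qK).left ≫ Φ.hom.left ≫ j.left))
  have hv1 : ∀ {T : Over Sk} (t : T ⟶ M), t ≫ v = toUnit T ≫ η[M₂] → t ≫ j ≫ q = toUnit T ≫ η[G₂] := fun {T} t ht => by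
    rw [← hvq, ← Category.assoc, ht, Category.assoc, IsMonHom.one_hom (f := j₂)]
  have hvK : (sp qK ≫ Φ.hom) ≫ v = toUnit _ ≫ η[M₂] := by
    show (sp qK ≫ Φ.hom) ≫ Φ.inv ≫ sp ψb ≫ Φ₂.hom = _
    rw [Category.assoc, Iso.hom_inv_id_assoc, ← Category.assoc, hK.w, Category.assoc, IsMonHom.one_hom (f := Φ₂.hom)]
  obtain ⟨c, hc, -⟩ := hq.exists_lift a (toUnit _) (by
    show (sp qK ≫ Φ.hom ≫ j) ≫ q = _
    rw [← Category.assoc (sp qK), Category.assoc, hv1 _ hvK])
  haveI : IsMonHom a := inferInstance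
  haveI : IsMonHom c := isMonHom_of_mono c i (by rw [hc]; infer_instance)
  haveI : IsClosedImmersion c.left := by
    haveI : IsClosedImmersion (c.left ≫ i.left) := by rw [← Over.comp_left, hc]; infer_instance
    exact IsClosedImmersion.of_comp c.left i.left
  obtain ⟨c₁, hc₁⟩ := hM₁max _ c hKT
  have hc₁u : c₁ ≫ u = sp qK ≫ Φ.hom := by
    rw [← cancel_mono j, Category.assoc, hu, ← Category.assoc, hc₁, hc]
    exact (Category.assoc _ _ _).symm
  refine IsPullback.mk' ?_ (fun _ _ _ e _ => (cancel_mono u).1 e) fun T t b e => ?_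
  · rw [← cancel_mono j₂, Category.assoc, hvq, ← Category.assoc, hu, Category.assoc j₁, hq.w, ← Category.assoc,
      toUnit_unique (j₁ ≫ toUnit G₁) (toUnit M₁), Category.assoc (toUnit M₁), IsMonHom.one_hom (f := j₂)]
  · obtain ⟨l, hl, -⟩ := hK.exists_lift (t ≫ Φ.inv) b (by
      rw [← cancel_mono Φ₂.hom, Category.assoc, Category.assoc, Category.assoc, IsMonHom.one_hom (f := Φ₂.hom)]
      exact e)
    exact ⟨l ≫ c₁, by rw [Category.assoc, hc₁u, ← Category.assoc, hl, Category.assoc, Iso.inv_hom_id, Category.comp_id],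
      toUnit_unique _ _⟩

end Groth.L07.MultExact
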